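import Groth.Agent.Hensel.EtaleReduced
import Mathlib.AlgebraicGeometry.Fiber
import Mathlib.AlgebraicGeometry.Morphisms.Separated
import Mathlib.AlgebraicGeometry.Morphisms.Finite
import Mathlib.AlgebraicGeometry.Morphisms.Etale
import Mathlib.Topology.Separation.Connected
import Mathlib.AlgebraicGeometry.Morphisms.QuasiFinite

/-!
# Points of finite group schemes with connected fibres in reduced schemes
-/

set_option autoImplicit false

universe u

open CategoryTheory Limits AlgebraicGeometry

namespace Groth.Agent.ResEtRed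

/-- A scheme etale over a reduced scheme is reduced. -/
theorem isReduced_of_etale {X Y : Scheme.{u}} (f : X ⟶ Y) [Etale f] [IsReduced Y] : IsReduced X := by
  have key : ∀ x : ↥X, ∃ W : X.Opens, x ∈ W ∧ IsReduced W.toScheme := by
    intro x
    obtain ⟨U, hU, hxU, -⟩ := exists_isAffineOpen_mem_and_subset (U := (⊤ : Y.Opens)) (x := f x) trivial
    obtain ⟨V, hV, hxV, hVU⟩ := exists_isAffineOpen_mem_and_subset (U := f ⁻¹ᵁ U) (x := x) hxU
    have : IsAffine U.toScheme := hU
    have : IsAffine V.toScheme := hV
    let g : V.toScheme ⟶ U.toScheme := f.resLE U V hVU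
    have : Etale g := by
      have h4 : Etale (g ≫ U.ι) := by rw [Scheme.Hom.resLE_comp_ι]; infer_instance
      exact MorphismProperty.of_postcomp (W := @Etale) (W' := @Etale) g U.ι inferInstance h4
    have : IsReduced U.toScheme := isReduced_of_isOpenImmersion U.ι
    let _ := g.appTop.hom.toAlgebra
    have h : g.appTop.hom.Etale := (HasRingHomProperty.iff_of_isAffine (P := @Etale)).1 ‹Etale g›
    have : Algebra.Etale Γ(U.toScheme, ⊤) Γ(V.toScheme, ⊤) := h
    have : _root_.IsReduced Γ(V.toScheme, ⊤) := Hensel.isReduced_of_etale Γ(U.toScheme, ⊤) _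
    exact ⟨V, hxV, isReduced_of_isOpenImmersion V.toScheme.isoSpec.hom⟩
  choose W hxW hW using key
  exact @IsReduced.of_openCover _ (X.openCoverOfIsOpenCover W
    (.mk (top_unique fun x _ => TopologicalSpace.Opens.mem_iSup.mpr ⟨x, hxW x⟩))) hW


/-- A finite morphism with connected fibres is injective. -/
theorem injective_of_connected_fibres {X S : Scheme.{u}} (p : X ⟶ S) [IsFinite p]
    (hconn : ∀ s : S, ConnectedSpace ↥(p.fiber s)) : Function.Injective p := by
  intro a b hab
  have := hconn (p b)
  have : Finite ↥(p.fiber (p b)) :=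
    @Finite.of_equiv _ _ (p.finite_preimage_singleton (p b)).to_subtype (p.fiberHomeo (p b)).toEquiv.symm
  have : Subsingleton ↥(p.fiber (p b)) := PreconnectedSpace.trivial_of_discrete
  have h := (p.fiberHomeo (p b)).toEquiv.subsingleton_congr.1 this
  exact congrArg Subtype.val (h.elim ⟨a, hab⟩ ⟨b, rfl⟩)

/-- A morphism from a reduced scheme to a separated scheme with a section, injective on points,
factors through the section. -/
theorem eq_comp_section {X S T : Scheme.{u}} (p : X ⟶ S) [IsSeparated p] (hinj : Function.Injective p)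
    (e : S ⟶ X) (he : e ≫ p = 𝟙 S) [IsReduced T] (g : T ⟶ X) : g = g ≫ p ≫ e := by
  have : IsClosedImmersion (e ≫ p) := by rw [he]; infer_instance
  have : IsClosedImmersion e := IsClosedImmersion.of_comp e p
  have : Surjective e := ⟨fun x => ⟨p x, hinj (by rw [← Scheme.Hom.comp_apply, he]; simp)⟩⟩
  have : IsIso (pullback.fst g e) := isIso_of_isClosedImmersion_of_surjective _
  have hg : g = inv (pullback.fst g e) ≫ pullback.snd g e ≫ e := by
    rw [← pullback.condition, IsIso.inv_hom_id_assoc]
  rw [hg]
  simp only [Category.assoc, reassoc_of% he]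

end Groth.Agent.ResEtRed
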